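import Mathlib
import Cfsg.Statements.S0508
import Cfsg.Agent.S0205
import Cfsg.Agent.S0199
import Cfsg.Agent.S0218
import Cfsg.Agent.S0508
import Cfsg.Agent.S3116
import Cfsg.Agent.Lib.Invol.ZStar
import Cfsg.Agent.Lib.Invol.QDTransfer
import Cfsg.Agent.Lib.PGroup.MaxClassRecog
import Cfsg.Agent.Lib.Classical.PSL2Spectrum
import Cfsg.Agent.Lib.Char.HalfLinear.Basic
import Cfsg.Agent.Lib.Coprime.Core

/-!
# Simple groups with self-centralizing non-cyclic subgroups

A commuting pair of involutions generates a self-centralizing four group, so involution centralizers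
are 2-groups of dihedral type, and the Brauer-Suzuki-Wall theorem identifies the group.
-/

set_option autoImplicit false
set_option linter.unusedSectionVars false

open Subgroup

namespace CfsgLib.Perm.SelfCentCyc

universe u

/-- Non-cyclic subgroups are self-centralizing. -/
def SC (G : Type u) [Group G] : Prop :=
  ∀ H : Subgroup G, ¬ IsCyclic ↥H → Subgroup.centralizer (H : Set G) ≤ H

variable {G : Type u} [Group G] [Finite G]

theorem sq_one {x : G} (h : orderOf x = 2) : x * x = 1 := by
  rw [← pow_two, ← h, pow_orderOf_eq_one]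

/-- The four group of two commuting involutions. -/
def four {t s : G} (ht : t * t = 1) (hs : s * s = 1) (hts : Commute t s) : Subgroup G where
  carrier := {x | x = 1 ∨ x = t ∨ x = s ∨ x = t * s}
  one_mem' := Or.inl rfl
  mul_mem' := by
    have h1 : s * t = t * s := hts.eq.symm
    have h2 : t * (t * s) = s := by rw [← mul_assoc, ht, one_mul]
    have h3 : s * (t * s) = t := by rw [← mul_assoc, h1, mul_assoc, hs, mul_one]
    have h4 : t * s * t = s := by rw [mul_assoc, h1, h2]
    have h5 : t * s * s = t := by rw [mul_assoc, hs, mul_one]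
    have h6 : t * s * (t * s) = 1 := by rw [← mul_assoc, h4, hs]
    rintro a b (rfl | rfl | rfl | rfl) (rfl | rfl | rfl | rfl) <;>
      simp only [Set.mem_ofPred_eq, one_mul, mul_one, ht, hs, h1, h2, h3, h4, h5, h6, true_or, or_true]
  inv_mem' := by
    have h1 : t⁻¹ = t := inv_eq_of_mul_eq_one_right ht
    have h2 : s⁻¹ = s := inv_eq_of_mul_eq_one_right hs
    rintro a (rfl | rfl | rfl | rfl) <;>
      simp only [Set.mem_ofPred_eq, inv_one, mul_inv_rev, h1, h2, hts.eq.symm, true_or, or_true]

theorem mem_four {t s x : G} {ht : t * t = 1} {hs : s * s = 1} {hts : Commute t s} :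
    x ∈ four ht hs hts ↔ (x = 1 ∨ x = t ∨ x = s ∨ x = t * s) := Iff.rfl

/-- A non-trivial pair of commuting involutions generates a self-centralizing group. -/
theorem four_cases (hsc : SC G) {t s x : G} (ht : orderOf t = 2) (hs : orderOf s = 2)
    (hts : Commute t s) (hne : s ≠ t) (hxt : Commute x t) (hxs : Commute x s) :
    x = 1 ∨ x = t ∨ x = s ∨ x = t * s := by
  set F := four (sq_one ht) (sq_one hs) hts with hF
  refine hsc F (fun hc => ?_) (mem_centralizer_iff.2 fun y hy => ?_)
  · have hexp : Monoid.exponent F ∣ 2 := Monoid.exponent_dvd_of_forall_pow_eq_one fun y => by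
      refine Subtype.ext ?_
      rw [Subgroup.coe_pow, Subgroup.coe_one, pow_two]
      rcases mem_four.1 y.2 with h | h | h | h <;> rw [h]
      · exact one_mul 1
      · exact sq_one ht
      · exact sq_one hs
      · rw [← pow_two, hts.mul_pow, pow_two, pow_two, sq_one ht, sq_one hs, one_mul]
    rw [IsCyclic.exponent_eq_card] at hexp
    have hle := Nat.le_of_dvd two_pos hexp
    have ht1 : t ≠ 1 := fun h => by rw [h, orderOf_one] at ht; omega
    have hs1 : s ≠ 1 := fun h => by rw [h, orderOf_one] at hs; omega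
    let f : Fin 3 → F := ![1, ⟨t, mem_four.2 (by tauto)⟩, ⟨s, mem_four.2 (by tauto)⟩]
    have hf : Function.Injective f := by
      intro a b e
      fin_cases a <;> fin_cases b <;>
        simp_all [f, Subtype.ext_iff, hne.symm, ht1.symm, hs1.symm]
    have := Nat.card_le_card_of_injective f hf
    rw [Nat.card_eq_fintype_card, Fintype.card_fin] at this
    omega
  · rcases mem_four.1 hy with h | h | h | h <;> rw [h]
    · rw [one_mul, mul_one]
    · exact hxt.eq.symm
    · exact hxs.eq.symm
    · exact (hxt.mul_right hxs).eq.symm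

/-- A group of order four with two involutions. -/
theorem four_list {R : Type u} [Group R] [Finite R] (h4 : Nat.card R = 4) {t s : R} (ht : orderOf t = 2)
    (hs : orderOf s = 2) (hts : Commute t s) (hne : s ≠ t) (z : R) :
    z = 1 ∨ z = t ∨ z = s ∨ z = t * s := by
  have ht1 : t ≠ 1 := fun h => by rw [h, orderOf_one] at ht; omega
  have hs1 : s ≠ 1 := fun h => by rw [h, orderOf_one] at hs; omega
  have htts : t * s ≠ t := fun h => hs1 (mul_eq_left.1 h)
  have hsts : t * s ≠ s := fun h => ht1 (mul_eq_right.1 h)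
  have hts1 : t * s ≠ 1 := fun h => hne (by
    calc s = t * t * s := by rw [sq_one ht, one_mul]
      _ = t * (t * s) := mul_assoc _ _ _
      _ = t := by rw [h, mul_one])
  have he : ({1, t, s, t * s} : Set R) = Set.univ := by
    refine Set.eq_of_subset_of_ncard_le (Set.subset_univ _) ?_ Set.finite_univ
    rw [Set.ncard_univ, h4, Set.ncard_insert_of_notMem (by simp [ht1.symm, hs1.symm, hts1.symm]),
      Set.ncard_insert_of_notMem (by simp [hne.symm, htts.symm]),
      Set.ncard_insert_of_notMem (by simp [hsts.symm]), Set.ncard_singleton]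
  have h := Set.mem_univ z
  rw [← he] at h
  exact h

/-- 2-groups with a self-centralizing four group. -/
theorem two_type {R : Type u} [Group R] [Finite R] (h2 : IsPGroup 2 R) {t s : R} (ht : orderOf t = 2)
    (hs : orderOf s = 2) (hts : Commute t s) (hne : s ≠ t)
    (hc : ∀ x : R, Commute x t → Commute x s → x = 1 ∨ x = t ∨ x = s ∨ x = t * s) :
    Nat.card R = 4 ∨ (∃ n : ℕ, 4 ≤ n ∧ Nonempty (R ≃* DihedralGroup n)) ∨ Cfsg.IsQuasiDihedral R := by
  haveI : Fact (Nat.Prime 2) := ⟨Nat.prime_two⟩
  set F := four (sq_one ht) (sq_one hs) hts with hF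
  have ht1 : t ≠ 1 := fun h => by rw [h, orderOf_one] at ht; omega
  have hs1 : s ≠ 1 := fun h => by rw [h, orderOf_one] at hs; omega
  have hts1 : t * s ≠ 1 := fun h => hne (by
    calc s = t * t * s := by rw [sq_one ht, one_mul]
      _ = t * (t * s) := mul_assoc _ _ _
      _ = t := by rw [h, mul_one])
  have htts : t * s ≠ t := fun h => hs1 (mul_eq_left.1 h)
  have hsts : t * s ≠ s := fun h => ht1 (mul_eq_right.1 h)
  have hcard : Nat.card F = 2 ^ 2 := by
    have he : (F : Set R) = ({1, t, s, t * s} : Set R) := Set.ext fun x => mem_four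
    rw [← SetLike.coe_sort_coe, he, Nat.card_coe_set_eq]
    rw [Set.ncard_insert_of_notMem (by simp [ht1.symm, hs1.symm, hts1.symm]),
      Set.ncard_insert_of_notMem (by simp [hne.symm, htts.symm]),
      Set.ncard_insert_of_notMem (by simp [hsts.symm]), Set.ncard_singleton]
    rfl
  have hcc : centralizer (F : Set R) = F := by
    refine le_antisymm (fun x hx => mem_four.2 (hc x (mem_centralizer_iff.1 hx t (mem_four.2 (by tauto))).symm
      (mem_centralizer_iff.1 hx s (mem_four.2 (by tauto))).symm)) fun x hx => mem_centralizer_iff.2 fun y hy => ?_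
    have hcom : ∀ a : R, a = 1 ∨ a = t ∨ a = s ∨ a = t * s → Commute a t ∧ Commute a s := by
      rintro a (rfl | rfl | rfl | rfl)
      · exact ⟨Commute.one_left _, Commute.one_left _⟩
      · exact ⟨Commute.refl _, hts⟩
      · exact ⟨hts.symm, Commute.refl _⟩
      · exact ⟨(Commute.refl t).mul_left hts.symm, hts.mul_left (Commute.refl s)⟩
    obtain ⟨h1, h2'⟩ := hcom y (mem_four.1 hy)
    rcases mem_four.1 hx with h | h | h | h <;> rw [h]
    · rw [one_mul, mul_one]
    · exact h1.eq
    · exact h2'.eq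
    · exact (h1.mul_right h2').eq
  obtain ⟨n, hn⟩ := h2.exists_card_eq
  have hn2 : 2 ≤ n := by
    have h := F.card_subgroup_dvd_card
    rw [hn, hcard] at h
    exact (Nat.pow_dvd_pow_iff_le_right (by norm_num)).1 h
  rcases eq_or_lt_of_le hn2 with rfl | hn3
  · exact Or.inl hn
  right
  have hcl := CfsgLib.PGroup.maximalClass_of_selfCentralizing n R hn F hcard hcc
  have h4 := CfsgLib.PGroup.index_commutator_of_maximal_two (by omega) hn hcl
  obtain ⟨r, e, a, b, hT, FR⟩ := CfsgLib.PGroup.exists_frame_two (by omega) hn h4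
  rcases CfsgLib.Invol.cases_of_std hT FR with h | ⟨⟨φ⟩⟩ | h
  · exact Or.inl ⟨2 ^ (n - 1), le_of_eq_of_le rfl
      (Nat.pow_le_pow_right two_pos (show 2 ≤ n - 1 by omega) : 2 ^ 2 ≤ 2 ^ (n - 1)), h⟩
  · exfalso
    have h1 := Cfsg.Agent.S0218.result (n - 1 - 1 - 1)
    rw [show n - 1 - 1 - 1 + 1 = n - 1 - 1 by omega, Nat.card_eq_one_iff_unique] at h1
    haveI := h1.1
    have h3 := Subsingleton.elim (⟨φ t, by rw [φ.orderOf_eq, ht]⟩ :
      {x : QuaternionGroup (2 ^ (n - 1 - 1)) // orderOf x = 2}) ⟨φ s, by rw [φ.orderOf_eq, hs]⟩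
    exact hne (φ.injective (congrArg Subtype.val h3)).symm
  · exact Or.inr h

/-- The group generated by `y` and an element inverting it. -/
def dih {y s : G} (hs : s * s = 1) (hy : s * y * s⁻¹ = y⁻¹) : Subgroup G where
  carrier := {x | ∃ i : ℤ, x = y ^ i ∨ x = y ^ i * s}
  one_mem' := ⟨0, Or.inl (zpow_zero y).symm⟩
  mul_mem' := by
    have hc : ∀ i : ℤ, s * y ^ i = y ^ (-i) * s := fun i => by
      have h1 : (s * y * s⁻¹) ^ i = s * y ^ i * s⁻¹ := conj_zpow
      rw [hy, inv_zpow', ] at h1
      rw [h1, inv_mul_cancel_right]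
    rintro a b ⟨i, rfl | rfl⟩ ⟨j, rfl | rfl⟩
    · exact ⟨i + j, Or.inl (zpow_add y i j).symm⟩
    · exact ⟨i + j, Or.inr (by rw [← mul_assoc, zpow_add])⟩
    · exact ⟨i + -j, Or.inr (by rw [mul_assoc, hc, ← mul_assoc, zpow_add])⟩
    · exact ⟨i + -j, Or.inl (by rw [mul_assoc, ← mul_assoc s, hc, mul_assoc, hs, mul_one, zpow_add])⟩
  inv_mem' := by
    have hc : ∀ i : ℤ, s * y ^ i = y ^ (-i) * s := fun i => by
      have h1 : (s * y * s⁻¹) ^ i = s * y ^ i * s⁻¹ := conj_zpow
      rw [hy, inv_zpow', ] at h1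
      rw [h1, inv_mul_cancel_right]
    rintro a ⟨i, rfl | rfl⟩
    · exact ⟨-i, Or.inl (zpow_neg y i).symm⟩
    · exact ⟨i, Or.inr (by rw [mul_inv_rev, inv_eq_of_mul_eq_one_right hs, ← zpow_neg, hc, neg_neg])⟩

/-- Two involutions in an involution centralizer generate a 2-group. -/
theorem pair_two_group (hsc : SC G) {t s u : G} (ht : orderOf t = 2) (hs : orderOf s = 2)
    (hu : orderOf u = 2) (hst : Commute s t) (hut : Commute u t) :
    ∃ j : ℕ, orderOf (s * u) = 2 ^ j := by
  obtain ⟨j, m, hm, hjm⟩ := Nat.exists_eq_two_pow_mul_odd (orderOf_pos (s * u)).ne'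
  refine ⟨j, ?_⟩
  by_contra hne
  have hm1 : m ≠ 1 := fun h => hne (by rw [hjm, h, mul_one])
  set w := s * u with hw
  have hsw : s * w * s⁻¹ = w⁻¹ := by
    rw [hw, mul_inv_rev, inv_eq_of_mul_eq_one_right (sq_one hs), inv_eq_of_mul_eq_one_right (sq_one hu),
      ← mul_assoc s s, sq_one hs, one_mul]
  set y := w ^ (2 ^ j) with hy
  have hyo : orderOf y = m := by
    rw [hy, orderOf_pow_of_dvd (by positivity) (hjm ▸ dvd_mul_right _ _), hjm,
      Nat.mul_div_cancel_left _ (by positivity)]
  have hsy : s * y * s⁻¹ = y⁻¹ := by rw [hy, ← conj_pow, hsw, inv_pow]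
  have hy2 : y * y ≠ 1 := fun h => by
    have h1 : orderOf y ∣ 2 := orderOf_dvd_of_pow_eq_one (by rw [pow_two, h])
    rw [hyo] at h1
    rcases (Nat.dvd_prime Nat.prime_two).1 h1 with h2 | h2
    · exact hm1 h2
    · rw [h2] at hm; exact absurd hm (by decide)
  set D := dih (sq_one hs) hsy with hD
  have hsD : s ∈ D := ⟨0, Or.inr (by rw [zpow_zero, one_mul])⟩
  have hyD : y ∈ D := ⟨1, Or.inl (zpow_one y).symm⟩
  have hncy : ¬ IsCyclic D := by
    intro hc
    letI : CommGroup D := IsCyclic.commGroup
    have h1 := congrArg Subtype.val (mul_comm (⟨s, hsD⟩ : D) ⟨y, hyD⟩)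
    simp only [Subgroup.coe_mul] at h1
    rw [h1, mul_inv_cancel_right] at hsy
    exact hy2 (mul_eq_one_iff_eq_inv.2 hsy)
  have hyt : Commute y t := (hst.mul_left hut).pow_left _
  have htD : t ∈ D := hsc D hncy (mem_centralizer_iff.2 fun x hx => by
    obtain ⟨i, h | h⟩ := hx <;> rw [h]
    · exact (hyt.zpow_left i).eq
    · exact ((hyt.zpow_left i).mul_left hst).eq)
  obtain ⟨i, h | h⟩ := htD
  · have h1 : orderOf t ∣ orderOf y := h ▸ orderOf_dvd_of_mem_zpowers (zpow_mem_zpowers y i)
    rw [ht, hyo] at h1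
    exact absurd (hm.of_dvd_nat h1) (by decide)
  · have h1 : Commute (y ^ i * s) y := h ▸ hyt.symm
    have h2 : Commute s y := by
      have := ((Commute.refl y).zpow_left i).inv_left.mul_left h1
      rwa [inv_mul_cancel_left] at this
    rw [h2.eq, mul_inv_cancel_right] at hsy
    exact hy2 (mul_eq_one_iff_eq_inv.2 hsy)

/-- An element of odd order centralizing an element of odd twist. -/
theorem eq_one_of_commute (hsc : SC G) {t s x : G} (ht : orderOf t = 2) (hs : orderOf s = 2)
    (hts : Commute t s) (hne : s ≠ t) (hxt : Commute x t) (hxs : Commute x s) (hx : Odd (orderOf x)) :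
    x = 1 := by
  rcases four_cases hsc ht hs hts hne hxt hxs with h | h | h | h
  · exact h
  all_goals exfalso; subst h
  · rw [ht] at hx; exact absurd hx (by decide)
  · rw [hs] at hx; exact absurd hx (by decide)
  · have h1 : orderOf (t * s) ∣ 2 := orderOf_dvd_of_pow_eq_one (by
      rw [hts.mul_pow, pow_two, pow_two, sq_one ht, sq_one hs, one_mul])
    rcases (Nat.dvd_prime Nat.prime_two).1 h1 with h2 | h2
    · exact hne (by
        rw [orderOf_eq_one_iff] at h2
        calc s = t * t * s := by rw [sq_one ht, one_mul]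
          _ = t * (t * s) := mul_assoc _ _ _
          _ = t := by rw [h2, mul_one])
    · rw [h2] at hx; exact absurd hx (by decide)

/-- Involution centralizers are 2-groups. -/
theorem cent_two (hsc : SC G) {t s : G} (ht : orderOf t = 2) (hs : orderOf s = 2) (hts : Commute t s)
    (hne : s ≠ t) : IsPGroup 2 (centralizer ({t} : Set G)) := by
  haveI : Fact (Nat.Prime 2) := ⟨Nat.prime_two⟩
  set C := centralizer ({t} : Set G) with hC
  let t' : C := ⟨t, mem_centralizer_singleton_iff.2 rfl⟩
  let s' : C := ⟨s, mem_centralizer_singleton_iff.2 hts.eq.symm⟩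
  have ht' : orderOf t' = 2 := by rw [← Subgroup.orderOf_coe]; exact ht
  have hs' : orderOf s' = 2 := by rw [← Subgroup.orderOf_coe]; exact hs
  have hcomC : ∀ g : C, Commute (g : G) t := fun g => mem_centralizer_singleton_iff.1 g.2
  have hpair : ∀ g : C, IsPGroup 2 ↥(zpowers s' ⊔ (zpowers s').map (MulAut.conj g).toMonoidHom) := by
    intro g
    set u' := g * s' * g⁻¹ with hu'
    have hu : orderOf u' = 2 := ((MulAut.conj g).orderOf_eq s').trans hs'
    obtain ⟨j, hj⟩ := pair_two_group hsc ht hs (by rw [Subgroup.orderOf_coe]; exact hu :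
      orderOf (u' : G) = 2) hts.symm (hcomC u')
    have hinv : s' * (s' * u') * s'⁻¹ = (s' * u')⁻¹ := by
      rw [mul_inv_rev, inv_eq_of_mul_eq_one_right (sq_one hs'),
        inv_eq_of_mul_eq_one_right (sq_one hu), ← mul_assoc s' s', sq_one hs', one_mul]
    have hle : zpowers s' ⊔ (zpowers s').map (MulAut.conj g).toMonoidHom ≤ dih (sq_one hs') hinv := by
      rw [MonoidHom.map_zpowers, sup_le_iff, zpowers_le, zpowers_le]
      refine ⟨⟨0, Or.inr (by rw [zpow_zero, one_mul])⟩, ⟨-1, Or.inr ?_⟩⟩
      rw [zpow_neg_one, mul_inv_rev, inv_eq_of_mul_eq_one_right (sq_one hs'),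
        inv_eq_of_mul_eq_one_right (sq_one hu), mul_assoc, sq_one hs', mul_one]
      rfl
    refine IsPGroup.to_le ?_ hle
    rintro ⟨x, i, h | h⟩
    · refine ⟨j, Subtype.ext ?_⟩
      have h1 : (s' * u') ^ (2 ^ j) = 1 := Subtype.ext (by
        rw [Subgroup.coe_pow, Subgroup.coe_mul, Subgroup.coe_one, ← hj]
        exact pow_orderOf_eq_one _)
      rw [Subgroup.coe_pow, Subgroup.coe_one]
      show x ^ 2 ^ j = 1
      rw [h, ← zpow_natCast, ← zpow_mul, mul_comm, zpow_mul, zpow_natCast, h1, one_zpow]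
    · refine ⟨1, Subtype.ext ?_⟩
      rw [Subgroup.coe_pow, Subgroup.coe_one, pow_one, pow_two]
      show x * x = 1
      rw [h]
      have h1 : s' * (s' * u') ^ i * s'⁻¹ = (s' * u') ^ (-i) := by
        rw [← conj_zpow, hinv, inv_zpow']
      rw [inv_eq_of_mul_eq_one_right (sq_one hs')] at h1
      calc (s' * u') ^ i * s' * ((s' * u') ^ i * s')
          = (s' * u') ^ i * (s' * (s' * u') ^ i * s') := by group
        _ = 1 := by rw [h1, ← zpow_add, add_neg_cancel, zpow_zero]
  obtain ⟨N, hN, hN2, hsN'⟩ := Cfsg.Agent.S0199.result (p := 2) (zpowers s')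
    (IsPGroup.of_card (n := 1) (by rw [Nat.card_zpowers, hs', pow_one])) hpair
  have hsN : s' ∈ N := hsN' (mem_zpowers s')
  haveI := hN
  have hNsub : ∀ n : C, n ∈ N → Commute (n : G) t := fun n _ => hcomC n
  -- odd elements are trivial
  have hodd : ∀ x : C, Odd (orderOf x) → x = 1 := by
    intro x hx
    have hx' : Odd (orderOf (x : G)) := by rwa [Subgroup.orderOf_coe]
    refine Subtype.ext ?_
    suffices hxs : Commute (x : G) s from eq_one_of_commute hsc ht hs hts hne (hcomC x) hxs hx'
    -- enlarge by the central involution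
    have htc : ∀ g : C, g * t' * g⁻¹ = t' := fun g => Subtype.ext (by
      simp only [Subgroup.coe_mul, InvMemClass.coe_inv, t']
      rw [(hcomC g).eq, mul_inv_cancel_right])
    haveI hTn : (zpowers t').Normal := ⟨fun a ha g => by
      obtain ⟨i, rfl⟩ := mem_zpowers_iff.1 ha
      rw [← conj_zpow, htc]
      exact zpow_mem_zpowers t' i⟩
    set R := N ⊔ zpowers t' with hR
    let t'' : R := ⟨t', mem_sup_right (mem_zpowers t')⟩
    haveI : R.Normal := Subgroup.sup_normal _ _
    have hR2 : IsPGroup 2 R := hN2.to_sup_of_normal_right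
      (IsPGroup.of_card (n := 1) (by rw [Nat.card_zpowers, ht', pow_one]))
    let s'' : R := ⟨s', mem_sup_left hsN⟩
    have hts' : Commute t'' s'' := Subtype.ext (Subtype.ext hts.eq)
    have hne' : s'' ≠ t'' := fun h => hne (congrArg (fun z : R => ((z : C) : G)) h)
    have htype := two_type hR2 (t := t'') (s := s'') (by rw [← Subgroup.orderOf_coe]; exact ht')
      (by rw [← Subgroup.orderOf_coe]; exact hs') hts' hne' fun z hz1 hz2 => by
        rcases four_cases hsc ht hs hts hne (x := ((z : C) : G))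
          (congrArg (fun z : R => ((z : C) : G)) hz1.eq)
          (congrArg (fun z : R => ((z : C) : G)) hz2.eq) with h | h | h | h
        · exact Or.inl (Subtype.ext (Subtype.ext h))
        · exact Or.inr (Or.inl (Subtype.ext (Subtype.ext h)))
        · exact Or.inr (Or.inr (Or.inl (Subtype.ext (Subtype.ext h))))
        · exact Or.inr (Or.inr (Or.inr (Subtype.ext (Subtype.ext h))))
    rcases htype with h4 | h8
    · -- the four group
      have hmem := four_list h4 (t := t'') (s := s'') (by rw [← Subgroup.orderOf_coe]; exact ht')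
        (by rw [← Subgroup.orderOf_coe]; exact hs') hts' hne'
      have hx2 : Commute ((x : G) ^ 2) s := by
        have hconj : (x : G) * s * (x : G)⁻¹ = s ∨ (x : G) * s * (x : G)⁻¹ = t * s := by
          have hm : x * s' * x⁻¹ ∈ R := Normal.conj_mem inferInstance s' (mem_sup_left hsN) x
          have hval : ((x * s' * x⁻¹ : C) : G) = (x : G) * s * (x : G)⁻¹ := by simp [s']
          rcases hmem ⟨_, hm⟩ with h | h | h | h <;>
            have h' := (congrArg (fun z : R => ((z : C) : G)) h) <;> simp only [hval] at h'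
          · exfalso
            simp only [Subgroup.coe_one, conj_eq_one_iff] at h'
            rw [h', orderOf_one] at hs; omega
          · exfalso
            refine hne ?_
            calc s = (x : G)⁻¹ * ((x : G) * s * (x : G)⁻¹) * x := by group
              _ = t := by
                rw [h']
                show (x : G)⁻¹ * t * x = t
                rw [mul_assoc, ← (hcomC x).eq, inv_mul_cancel_left]
          · exact Or.inl h'
          · exact Or.inr h'
        rcases hconj with h | h
        · exact (Commute.pow_left (by rw [mul_inv_eq_iff_eq_mul] at h; exact h) 2)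
        · have e : (x : G) ^ 2 * s * ((x : G) ^ 2)⁻¹ = s := by
            calc (x : G) ^ 2 * s * ((x : G) ^ 2)⁻¹
                = (x : G) * ((x : G) * s * (x : G)⁻¹) * (x : G)⁻¹ := by rw [pow_two]; group
              _ = (x : G) * t * s * (x : G)⁻¹ := by rw [h, ← mul_assoc (x : G) t s]
              _ = t * ((x : G) * s * (x : G)⁻¹) := by rw [(hcomC x).eq]; group
              _ = s := by rw [h, ← mul_assoc, sq_one ht, one_mul]
          exact mul_inv_eq_iff_eq_mul.1 e
      obtain ⟨k, hk⟩ := hx'
      have h1 := hx2.pow_left (k + 1)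
      rw [← pow_mul, show 2 * (k + 1) = orderOf (x : G) + 1 by omega, pow_succ, pow_orderOf_eq_one,
        one_mul] at h1
      exact h1
    · -- the automorphism group is a 2-group
      have hA : IsPGroup 2 (MulAut R) := Cfsg.Agent.S3116.result hR2 h8
      have h1 : MulAut.conjNormal (H := R) x = 1 := by
        refine orderOf_eq_one_iff.1 ?_
        obtain ⟨k, hk⟩ := hA (MulAut.conjNormal (H := R) x)
        obtain ⟨i, -, hi⟩ := (Nat.dvd_prime_pow Nat.prime_two).1 (orderOf_dvd_of_pow_eq_one hk)
        rcases i with _ | i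
        · rw [hi, pow_zero]
        · have h2 := orderOf_map_dvd (MulAut.conjNormal (H := R)) x
          exact absurd (hx.of_dvd_nat ((dvd_pow_self 2 (Nat.succ_ne_zero i)).trans (hi ▸ h2))) (by decide)
      have h2 := congrArg (fun z : R => ((z : C) : G)) (DFunLike.congr_fun h1 s'')
      simp only [MulAut.one_apply, MulAut.conjNormal_apply, Subgroup.coe_mul, InvMemClass.coe_inv] at h2
      exact mul_inv_eq_iff_eq_mul.1 h2
  intro g
  obtain ⟨j, m, hm, hjm⟩ := Nat.exists_eq_two_pow_mul_odd (orderOf_pos g).ne'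
  refine ⟨j, hodd _ ?_⟩
  rw [orderOf_pow_of_dvd (by positivity) (hjm ▸ dvd_mul_right _ _), hjm,
    Nat.mul_div_cancel_left _ (by positivity)]
  exact hm

section Simple

variable [IsSimpleGroup G] (hna : ¬ IsMulCommutative G)

include hna

theorem center_bot : Subgroup.center G = ⊥ := by
  rcases (inferInstance : (Subgroup.center G).Normal).eq_bot_or_eq_top with h | h
  · exact h
  · exact absurd (isMulCommutative_iff.2 fun a b =>
      (mem_center_iff.1 (h ▸ mem_top b) a)) hna

theorem two_dvd_card : 2 ∣ Nat.card G := by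
  by_contra h
  have hs : Group.IsSolvable G := Cfsg.Agent.S0205.result (Nat.odd_iff.2 (by omega))
  exact hna (isMulCommutative_iff.2 (IsSimpleGroup.comm_iff_isSolvable.2 hs))

/-- A commuting conjugate involution. -/
theorem exists_partner {t : G} (ht : orderOf t = 2) :
    ∃ s : G, orderOf s = 2 ∧ Commute t s ∧ s ≠ t := by
  by_contra hno
  push Not at hno
  have hz := CfsgLib.Invol.zstar (z := t) ⟨ht, fun g hg =>
    hno _ (((MulAut.conj g).orderOf_eq t).trans ht) hg⟩
  have hO : Cfsg.pPrimeCore 2 G = ⊥ := by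
    rcases (inferInstance : (Cfsg.pPrimeCore 2 G).Normal).eq_bot_or_eq_top with h | h
    · exact h
    · exfalso
      have h1 := CfsgLib.Coprime.pPrimeCore_coprime (G := G) Nat.prime_two
      rw [h, Subgroup.card_top] at h1
      exact absurd (two_dvd_card hna) ((Nat.prime_two.coprime_iff_not_dvd).1 h1.symm)
  have htc : t ∈ Subgroup.center G := mem_center_iff.2 fun g => by
    have h1 := hz g
    rw [hO, mem_bot, mul_inv_eq_one, mul_inv_eq_iff_eq_mul] at h1
    exact h1.symm
  rw [center_bot hna, mem_bot] at htc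
  rw [htc, orderOf_one] at ht
  omega

theorem cent_two_simple (hsc : SC G) {t : G} (ht : orderOf t = 2) :
    IsPGroup 2 (centralizer ({t} : Set G)) := by
  obtain ⟨s, hs, hts, hne⟩ := exists_partner hna ht
  exact cent_two hsc ht hs hts hne

/-- The group is a two-dimensional projective special linear group in odd characteristic. -/
theorem exists_psl (hsc : SC G) : ∃ (F : Type) (_ : Field F) (_ : Fintype F),
    Odd (Fintype.card F) ∧ Nonempty (G ≃* Matrix.ProjectiveSpecialLinearGroup (Fin 2) F) := by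
  haveI : Fact (Nat.Prime 2) := ⟨Nat.prime_two⟩
  obtain ⟨S⟩ : Nonempty (Sylow 2 G) := inferInstance
  haveI : Nontrivial (S : Subgroup G) := by
    rw [← Finite.one_lt_card_iff_nontrivial]
    exact lt_of_lt_of_le one_lt_two (Nat.le_of_dvd Nat.card_pos (S.dvd_card_of_dvd_card (two_dvd_card hna)))
  haveI := S.isPGroup'.center_nontrivial
  obtain ⟨k, hk, e⟩ := (S.isPGroup'.to_subgroup (Subgroup.center (S : Subgroup G))).nontrivial_iff_card.1
    inferInstance
  obtain ⟨z, hz⟩ := exists_prime_orderOf_dvd_card' (G := Subgroup.center (S : Subgroup G)) 2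
    (e ▸ dvd_pow_self 2 hk.ne')
  set t : G := ((z : (S : Subgroup G)) : G) with htdef
  have ht : orderOf t = 2 := by rw [htdef, Subgroup.orderOf_coe, Subgroup.orderOf_coe, hz]
  have htS : t ∈ (S : Subgroup G) := SetLike.coe_mem _
  have htZ : ∀ x ∈ (S : Subgroup G), x * t = t * x := fun x hx =>
    congrArg Subtype.val (mem_center_iff.1 z.2 ⟨x, hx⟩)
  have hSC : (S : Subgroup G) ≤ centralizer ({t} : Set G) := fun x hx =>
    mem_centralizer_singleton_iff.2 (htZ x hx)
  have hC2 := cent_two_simple hna hsc ht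
  have hCS : centralizer ({t} : Set G) = (S : Subgroup G) := S.is_maximal' hC2 hSC
  obtain ⟨s, hs, hts, hne⟩ := exists_partner hna ht
  have hsS : s ∈ (S : Subgroup G) := hCS.le (mem_centralizer_singleton_iff.2 hts.eq.symm)
  have htype := two_type S.isPGroup' (t := ⟨t, htS⟩) (s := ⟨s, hsS⟩)
    (by rw [← Subgroup.orderOf_coe]; exact ht) (by rw [← Subgroup.orderOf_coe]; exact hs)
    (Subtype.ext hts.eq) (fun h => hne (congrArg Subtype.val h)) fun x h1 h2 => by
      rcases four_cases hsc ht hs hts hne (x := (x : G)) (congrArg Subtype.val h1.eq)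
        (congrArg Subtype.val h2.eq) with h | h | h | h
      · exact Or.inl (Subtype.ext h)
      · exact Or.inr (Or.inl (Subtype.ext h))
      · exact Or.inr (Or.inr (Or.inl (Subtype.ext h)))
      · exact Or.inr (Or.inr (Or.inr (Subtype.ext h)))
  have hdih : ∀ n : ℕ, 2 ≤ n → Nonempty ((S : Subgroup G) ≃* DihedralGroup n) →
      ∃ (F : Type) (_ : Field F) (_ : Fintype F),
        Odd (Fintype.card F) ∧ Nonempty (G ≃* Matrix.ProjectiveSpecialLinearGroup (Fin 2) F) := by
    intro n hn hS
    set O := (Cfsg.oddCore (Subgroup.centralizer ({t} : Set G))).map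
      (Subgroup.centralizer ({t} : Set G)).subtype with hO
    have hbot : O = ⊥ := by
      rw [hO, Subgroup.map_eq_bot_iff_of_injective _ (Subgroup.subtype_injective _)]
      obtain ⟨j, hj⟩ := (hC2.to_subgroup (Cfsg.oddCore (Subgroup.centralizer ({t} : Set G)))).exists_card_eq
      have h1 := CfsgLib.Coprime.pPrimeCore_coprime (G := Subgroup.centralizer ({t} : Set G)) Nat.prime_two
      rcases j with _ | j
      · exact card_eq_one.1 (by rw [hj, pow_zero])
      · exfalso
        unfold Cfsg.oddCore at hj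
        rw [hj] at h1
        exact (Nat.prime_two.coprime_iff_not_dvd).1 h1.symm (dvd_pow_self 2 (Nat.succ_ne_zero j))
    refine Cfsg.Agent.S0508.result S n hn hS t ht htS htZ O hO (fun h => absurd hbot h) ?_ ?_
    · intro x _ hx
      exact absurd (mem_centralizer_iff.2 fun y hy => by
        rw [hbot, coe_bot, Set.mem_singleton_iff] at hy
        rw [hy, one_mul, mul_one]) hx
    · intro Y hY hY1
      exact absurd (le_bot_iff.1 (hbot ▸ hY)) hY1
  rcases htype with h4 | ⟨n, hn, hS⟩ | hQ
  · refine hdih 2 le_rfl ?_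
    haveI : IsKleinFour (S : Subgroup G) := by
      refine ⟨h4, ?_⟩
      have h1 : Monoid.exponent (S : Subgroup G) ∣ 2 := Monoid.exponent_dvd_of_forall_pow_eq_one fun x => by
        have ht' : orderOf (⟨t, htS⟩ : (S : Subgroup G)) = 2 := by rw [← Subgroup.orderOf_coe]; exact ht
        have hs' : orderOf (⟨s, hsS⟩ : (S : Subgroup G)) = 2 := by rw [← Subgroup.orderOf_coe]; exact hs
        have hc' : Commute (⟨t, htS⟩ : (S : Subgroup G)) ⟨s, hsS⟩ := Subtype.ext hts.eq
        rw [pow_two]
        rcases four_list h4 ht' hs' hc' (fun h => hne (congrArg Subtype.val h)) x with h | h | h | h <;>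
          rw [h]
        · exact one_mul 1
        · exact sq_one ht'
        · exact sq_one hs'
        · rw [← pow_two, hc'.mul_pow, pow_two, pow_two, sq_one ht', sq_one hs', one_mul]
      rcases (Nat.dvd_prime Nat.prime_two).1 h1 with h | h
      · exfalso
        have := Monoid.exp_eq_one_iff.1 h
        exact not_nontrivial (S : Subgroup G) inferInstance
      · exact h
    exact IsKleinFour.nonempty_mulEquiv
  · exact hdih n (by omega) hS
  · exfalso
    obtain ⟨k, a, b, hk, -, Q⟩ := CfsgLib.Invol.exists_qdFrame hQ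
    by_cases h4 : CfsgLib.Invol.FusedFour a b ((2 : ℤ) ^ (k - 2))
    · obtain ⟨i, hi, hconj⟩ := h4
      obtain ⟨g, hg⟩ := isConj_iff.1 hconj
      set T := CfsgLib.Invol.rotG a (2 * (2 : ℤ) ^ (k - 2)) with hT
      have hgT : g * T * g⁻¹ = T := by
        calc g * T * g⁻¹ = (g * CfsgLib.Invol.refG a b i * g⁻¹) * (g * CfsgLib.Invol.refG a b i * g⁻¹) := by
              rw [hT, ← Q.sq_refG_odd hi]; group
          _ = T := by rw [hg, CfsgLib.Invol.QDFrame.sq_quarter]
      have hgC : g ∈ centralizer ({T} : Set G) :=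
        mem_centralizer_singleton_iff.2 (mul_inv_eq_iff_eq_mul.1 hgT)
      have hST : (S : Subgroup G) ≤ centralizer ({T} : Set G) := fun x hx =>
        mem_centralizer_singleton_iff.2 (Q.commute_center hx)
      have hTS : centralizer ({T} : Set G) = (S : Subgroup G) :=
        S.is_maximal' (cent_two_simple hna hsc Q.orderOf_centerG) hST
      have hgS : g⁻¹ ∈ (S : Subgroup G) := inv_mem (hTS.le hgC)
      have hr : g⁻¹ * CfsgLib.Invol.rotG a ((2 : ℤ) ^ (k - 2)) * g⁻¹⁻¹ = CfsgLib.Invol.refG a b i := by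
        rw [← hg]; group
      rcases Q.conj_quarterG hgS with e | e <;> rw [hr] at e <;>
        exact Q.rotG_ne_refG _ _ e.symm
    · obtain ⟨H, hH, -⟩ := Q.exists_index_two_four h4
      rcases (Subgroup.normal_of_index_eq_two hH).eq_bot_or_eq_top with h | h
      · rw [h, index_bot] at hH
        exact hna (isMulCommutative_iff.2 (by
          haveI : IsCyclic G := isCyclic_of_prime_card hH
          letI : CommGroup G := IsCyclic.commGroup
          exact mul_comm))
      · rw [h, index_top] at hH; omega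

/-- The possible fields. -/
theorem card_cases (hsc : SC G) {F : Type} [Field F] [Fintype F] (hodd : Odd (Fintype.card F))
    (e : G ≃* Matrix.ProjectiveSpecialLinearGroup (Fin 2) F) :
    Fintype.card F = 4 ∨ Fintype.card F = 9 ∨
      ((Fintype.card F).Prime ∧ ∃ k : ℕ, Fintype.card F = 2 ^ k + 1 ∨ Fintype.card F = 2 ^ k - 1) := by
  classical
  obtain ⟨p, hpc⟩ := CharP.exists F
  obtain ⟨f, hp, hf⟩ := FiniteField.card F p
  have ho : Fintype.card F % 2 = 1 := Nat.odd_iff.1 hodd
  set q := Fintype.card F with hq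
  have hq3 : 3 ≤ q := by
    have := Fintype.one_lt_card (α := F)
    omega
  have key : ∀ m : ℕ, Even m → (∃ g : Matrix.ProjectiveSpecialLinearGroup (Fin 2) F, orderOf g = m) →
      ∃ j : ℕ, m = 2 ^ j := by
    rintro m hme ⟨g, hg⟩
    haveI : Fact (Nat.Prime 2) := ⟨Nat.prime_two⟩
    set h := e.symm g with hh
    have hho : orderOf h = m := by rw [hh, e.symm.orderOf_eq, hg]
    have h2 : 2 ∣ orderOf h := hho ▸ hme.two_dvd
    have ht : orderOf (h ^ (orderOf h / 2)) = 2 := orderOf_pow_orderOf_div (orderOf_pos h).ne' h2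
    obtain ⟨j, hj⟩ := cent_two_simple hna hsc ht
      ⟨h, mem_centralizer_singleton_iff.2 ((Commute.refl h).pow_right _).eq⟩
    have hj' : h ^ 2 ^ j = 1 := congrArg Subtype.val hj
    obtain ⟨i, -, hi⟩ := (Nat.dvd_prime_pow Nat.prime_two).1 (orderOf_dvd_of_pow_eq_one hj')
    exact ⟨i, hho ▸ hi⟩
  haveI : Fact p.Prime := ⟨hp⟩
  have hf' : q = p ^ (f : ℕ) := hf
  have hp2 : p ≠ 2 := fun h => by
    rw [hf', h] at ho
    have : 2 ∣ 2 ^ (f : ℕ) := dvd_pow_self 2 f.ne_zero
    omega
  rcases Nat.even_or_odd ((q - 1) / 2) with hev | hev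
  · obtain ⟨a, ha⟩ := CfsgLib.Classical.PSL2Spectrum.exists_order_sub_one (F := F)
    obtain ⟨j, hj⟩ := key _ hev ⟨_, CfsgLib.Classical.PSL2Spectrum.orderOf_π_half ho
      (show orderOf a = 2 * ((q - 1) / 2) by omega)⟩
    have hk : p ^ (f : ℕ) = 2 ^ (j + 1) + 1 := by rw [← hf', pow_succ]; omega
    rcases CfsgLib.Char.HalfLinear.exp_one_of_sub_one (hp.odd_of_ne_two hp2) f.pos hk with h1 | ⟨h1, h2⟩
    · exact Or.inr (Or.inr ⟨by rw [hf', h1, pow_one]; exact hp, j + 1, Or.inl (by rw [hf', hk])⟩)
    · exact Or.inr (Or.inl (by rw [hf', h1, h2]; norm_num))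
  · have hev' : Even ((q + 1) / 2) := by
      rcases hev with ⟨c, hc⟩
      exact ⟨c + 1, by omega⟩
    obtain ⟨a, ha⟩ := CfsgLib.Classical.PSL2Spectrum.exists_order_add_one (F := F)
    obtain ⟨j, hj⟩ := key _ hev' ⟨_, CfsgLib.Classical.PSL2Spectrum.orderOf_π_half ho
      (show orderOf a = 2 * ((q + 1) / 2) by omega)⟩
    have hk : p ^ (f : ℕ) + 1 = 2 ^ (j + 1) := by rw [← hf', pow_succ]; omega
    have h1 := CfsgLib.Char.HalfLinear.exp_one_of_add_one (hp.odd_of_ne_two hp2) f.pos hk
    exact Or.inr (Or.inr ⟨by rw [hf', h1, pow_one]; exact hp, j + 1, Or.inr (by omega)⟩)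

end Simple

end CfsgLib.Perm.SelfCentCyc
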