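import Cfsg.Agent.Lib.Perm.SelfCentCyc.Forward
import Cfsg.Agent.S0799
import Cfsg.Agent.S3920
import Cfsg.Agent.Lib.Classical.ProjLine
import Cfsg.Agent.Lib.Perm.Dickson.Subfield

/-!
# Self-centralizing non-cyclic subgroups of `PSL(2, q)`
-/

set_option autoImplicit false
set_option linter.unusedSectionVars false

open Subgroup

namespace CfsgLib.Perm.SelfCentCyc

theorem dihedral_central {k : ℕ} (hk : Odd k) (hk1 : k ≠ 1) {x : DihedralGroup k}
    (h : ∀ y, x * y = y * x) : x = 1 := by
  have h2 : IsUnit (2 : ZMod k) := by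
    rw [show (2 : ZMod k) = ((2 : ℕ) : ZMod k) by norm_num, ZMod.isUnit_iff_coprime]
    exact Nat.coprime_two_left.2 hk
  cases x with
  | r i =>
    have h1 := h (DihedralGroup.sr 0)
    rw [DihedralGroup.r_mul_sr, DihedralGroup.sr_mul_r, DihedralGroup.sr.injEq, zero_sub, zero_add] at h1
    have : (2 : ZMod k) * i = 0 := by linear_combination -h1
    rw [h2.mul_right_eq_zero.1 this]
    rfl
  | sr i =>
    have h1 := h (DihedralGroup.r 1)
    rw [DihedralGroup.sr_mul_r, DihedralGroup.r_mul_sr, DihedralGroup.sr.injEq] at h1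
    have h3 : (2 : ZMod k) = 0 := by linear_combination h1
    rw [h3, isUnit_zero_iff] at h2
    haveI : Subsingleton (ZMod k) := subsingleton_of_zero_eq_one h2
    exact absurd ((ZMod.subsingleton_iff).1 inferInstance) hk1

/-- A central element of a group isomorphic to one with trivial center. -/
theorem eq_one_of_iso {G T : Type*} [Group G] [Group T] {C : Subgroup G} (e : C ≃* T)
    (hT : ∀ x : T, (∀ y, x * y = y * x) → x = 1) {c : G} (hcC : c ∈ C)
    (hc : ∀ u ∈ C, Commute c u) : c = 1 := by
  have h1 : e ⟨c, hcC⟩ = 1 := hT _ fun y => by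
    obtain ⟨u, rfl⟩ := e.surjective y
    rw [← map_mul, ← map_mul]
    exact congrArg e (Subtype.ext (hc u u.2).eq)
  exact congrArg Subtype.val (e.map_eq_one_iff.1 h1)

theorem alt_four_central : ∀ x : alternatingGroup (Fin 4), (∀ y, x * y = y * x) → x = 1 := by decide

theorem perm_four_central : ∀ x : Equiv.Perm (Fin 4), (∀ y, x * y = y * x) → x = 1 := by decide

theorem alt_five_central (x : alternatingGroup (Fin 5)) (hx : ∀ y, x * y = y * x) : x = 1 := by
  haveI : IsSimpleGroup (alternatingGroup (Fin 5)) := alternatingGroup.isSimpleGroup (α := Fin 5) (by simp)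
  have hx' : x ∈ Subgroup.center (alternatingGroup (Fin 5)) := mem_center_iff.2 fun y => (hx y).symm
  rcases (inferInstance : (Subgroup.center (alternatingGroup (Fin 5))).Normal).eq_bot_or_eq_top with h | h
  · rwa [h, mem_bot] at hx'
  · exfalso
    have := mem_center_iff.1 (h ▸ mem_top (⟨Equiv.swap 0 1 * Equiv.swap 1 2, by rw [Equiv.Perm.mem_alternatingGroup]; decide⟩ :
        alternatingGroup (Fin 5))) ⟨Equiv.swap 0 1 * Equiv.swap 1 3, by rw [Equiv.Perm.mem_alternatingGroup]; decide⟩
    revert this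
    decide

/-- Non-cyclic subgroups of a group of order at most four. -/
theorem eq_of_card_le_four {G : Type*} [Group G] [Finite G] {H C : Subgroup G} (hle : H ≤ C)
    (hH : ¬ IsCyclic H) (hC : Nat.card C ≤ 4) : H = C := by
  refine eq_of_le_of_card_ge hle ?_
  have h4 : 4 ≤ Nat.card H := by
    by_contra hlt
    have hpos : 0 < Nat.card H := Nat.card_pos
    rcases (show Nat.card H = 1 ∨ Nat.card H = 2 ∨ Nat.card H = 3 by omega) with h | h | h
    · haveI : Subsingleton H := (Nat.card_eq_one_iff_unique.1 h).1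
      exact hH inferInstance
    · haveI : Fact (Nat.Prime 2) := ⟨Nat.prime_two⟩
      exact hH (isCyclic_of_prime_card h)
    · haveI : Fact (Nat.Prime 3) := ⟨Nat.prime_three⟩
      exact hH (isCyclic_of_prime_card h)
  omega

/-- The condition on the field. -/
def Good (q : ℕ) : Prop :=
  q = 9 ∨ (q.Prime ∧ ∃ k : ℕ, q = 2 ^ k + 1 ∨ q = 2 ^ k - 1)

theorem good_dvd {q k : ℕ} (hq : Good q) (h5 : 5 ≤ q)
    (hk : k ∣ (q + 1) / 2 ∨ k ∣ (q - 1) / 2) : Odd k ∨ ∃ j, k = 2 ^ j := by
  have main : ∀ a b : ℕ, (∃ j, a = 2 ^ j) → Odd b → (k ∣ a ∨ k ∣ b) → Odd k ∨ ∃ j, k = 2 ^ j := by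
    rintro a b ⟨j, rfl⟩ hb (h | h)
    · obtain ⟨i, -, hi⟩ := (Nat.dvd_prime_pow Nat.prime_two).1 h
      exact Or.inr ⟨i, hi⟩
    · exact Or.inl (hb.of_dvd_nat h)
  rcases hq with rfl | ⟨-, K, hK⟩
  · exact main 4 5 ⟨2, rfl⟩ (by decide) hk.symm
  · obtain ⟨j, rfl⟩ : ∃ j, K = j + 2 := ⟨K - 2, by
      rcases K with _ | _ | K <;> simp at hK ⊢ <;> omega⟩
    have e : 2 ^ (j + 2) = 2 * 2 ^ (j + 1) := by rw [pow_succ' 2 (j + 1)]
    have he : Even (2 ^ (j + 1)) := ⟨2 ^ j, by rw [pow_succ]; ring⟩
    rw [e] at hK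
    rcases hK with hK | hK
    · refine main _ _ ⟨j + 1, ?_⟩ ?_ hk.symm
      · omega
      · rw [show (q + 1) / 2 = 2 ^ (j + 1) + 1 by omega]
        exact he.add_one
    · refine main _ _ ⟨j + 1, ?_⟩ ?_ hk
      · omega
      · rw [show (q - 1) / 2 = 2 ^ (j + 1) - 1 by omega]
        obtain ⟨c, hc⟩ := he
        exact ⟨c - 1, by omega⟩

variable {F : Type} [Field F] [Fintype F]

local notation "P2" => Matrix.ProjectiveSpecialLinearGroup (Fin 2) F
local notation "qF" => Fintype.card F

theorem sc_psl [IsSimpleGroup P2] (hodd : qF % 2 = 1) (h5 : 5 ≤ qF) (hgood : Good qF) : SC P2 := by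
  classical
  haveI : Finite P2 := Quotient.finite _
  intro H hH c hc
  by_cases hc1 : c = 1
  · rw [hc1]; exact H.one_mem
  obtain ⟨p, hpc⟩ := CharP.exists F
  obtain ⟨f, hp, hf⟩ := FiniteField.card F p
  haveI : Fact p.Prime := ⟨hp⟩
  have hpq : p ∣ qF := hf ▸ dvd_pow_self p f.ne_zero
  have hp2 : p ≠ 2 := fun h => by subst h; omega
  have hqp : (Nat.Prime qF ∧ p = qF) ∨ (qF = 9 ∧ p = 3) := by
    rcases hgood with h | ⟨h, -⟩
    · refine Or.inr ⟨h, ?_⟩
      rw [h, show (9 : ℕ) = 3 ^ 2 from rfl] at hpq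
      exact (Nat.prime_dvd_prime_iff_eq hp Nat.prime_three).1 (hp.dvd_of_dvd_pow hpq)
    · exact Or.inl ⟨h, (Nat.prime_dvd_prime_iff_eq hp h).1 hpq⟩
  have hgcd : Nat.gcd 2 (qF - 1) = 2 := Nat.gcd_eq_left (by omega)
  have hG : 2 * Nat.card P2 = qF * ((qF - 1) * (qF + 1)) := by
    have h := CfsgLib.Classical.card_psl2 (F := F)
    rwa [hgcd] at h
  have hnot : ¬ p ∣ (qF - 1) * (qF + 1) := fun h => by
    rcases hp.dvd_mul.1 h with h1 | h1
    · have := Nat.dvd_sub hpq h1
      rw [show qF - (qF - 1) = 1 by omega] at this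
      exact hp.ne_one (Nat.dvd_one.1 this)
    · have := Nat.dvd_sub h1 hpq
      rw [show qF + 1 - qF = 1 by omega] at this
      exact hp.ne_one (Nat.dvd_one.1 this)
  -- no mixed elements
  have hmix : ∀ g : P2, p ∣ orderOf g → orderOf g = p := by
    intro g hg
    rcases (CfsgLib.Classical.PSL2Spectrum.mem_range_orderOf (F := F) p (by omega) _).1 ⟨g, rfl⟩
      with h | h | h
    · exact Nat.dvd_antisymm h hg
    · rw [hgcd] at h
      exact absurd ((hg.trans h).trans (Nat.div_dvd_of_dvd (by omega))) fun h' =>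
        hnot (h'.mul_right _)
    · rw [hgcd] at h
      exact absurd ((hg.trans h).trans (Nat.div_dvd_of_dvd (by omega))) fun h' =>
        hnot (h'.mul_left _)
  have hcomm : ∀ g u : P2, Commute g u → p ∣ orderOf g → ∀ r : ℕ, r.Prime → r ∣ orderOf u → r = p := by
    intro g u hgu hg r hr hu
    by_contra hne
    set u' := u ^ (orderOf u / r)
    have hu' : orderOf u' = r := orderOf_pow_orderOf_div (orderOf_pos u).ne' hu
    have hgo := hmix g hg
    have hm : orderOf (g * u') = p * r := by
      rw [(hgu.pow_right _).orderOf_mul_eq_mul_orderOf_of_coprime, hgo, hu']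
      rw [hgo, hu']
      exact (Nat.coprime_primes hp hr).2 fun e => hne e.symm
    have h1 := hmix (g * u') (hm ▸ dvd_mul_right p r)
    rw [hm] at h1
    exact hr.ne_one (Nat.eq_of_mul_eq_mul_left hp.pos (h1.trans (mul_one p).symm))
  set C := centralizer ({c} : Set P2) with hCdef
  have hHC : H ≤ C := fun x hx => mem_centralizer_singleton_iff.2 (mem_centralizer_iff.1 hc x hx)
  have hcC : c ∈ C := mem_centralizer_singleton_iff.2 rfl
  have hcent : ∀ u ∈ C, Commute c u := fun u hu => (mem_centralizer_singleton_iff.1 hu).symm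
  have hcyc : ¬ IsCyclic C := fun h => hH (Subgroup.isCyclic_of_le hHC)
  by_cases hpc' : p ∣ orderOf c
  · have hCp : IsPGroup p C := fun u => by
      obtain ⟨m, hm⟩ : ∃ m, orderOf (u : P2) = p ^ m :=
        ⟨_, Nat.eq_prime_pow_of_unique_prime_dvd (orderOf_pos _).ne'
          fun {r} hr hru => hcomm c u (hcent u u.2) hpc' r hr hru⟩
      exact ⟨m, Subtype.ext (by rw [Subgroup.coe_pow, Subgroup.coe_one, ← hm, pow_orderOf_eq_one])⟩
    obtain ⟨j, hj⟩ := hCp.exists_card_eq
    have hdq : p ^ j ∣ qF := by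
      refine (Nat.Coprime.pow_left j (hp.coprime_iff_not_dvd.2 hnot)).dvd_of_dvd_mul_right ?_
      rw [← hG, ← hj]
      exact C.card_subgroup_dvd_card.mul_left 2
    rcases hqp with ⟨hqP, rfl⟩ | ⟨hq9, rfl⟩
    · rcases (Nat.dvd_prime hqP).1 hdq with h | h <;> rw [← hj] at h
      · haveI : Subsingleton C := (Nat.card_eq_one_iff_unique.1 h).1
        exact absurd (inferInstance : IsCyclic C) hcyc
      · haveI : Fact (Nat.Prime qF) := ⟨hqP⟩
        exact absurd (isCyclic_of_prime_card h) hcyc
    · rw [hq9, show (9 : ℕ) = 3 ^ 2 from rfl] at hdq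
      have hj2 : j ≤ 2 := (Nat.pow_dvd_pow_iff_le_right (by norm_num)).1 hdq
      have he : H = C := by
        refine eq_of_le_of_card_ge hHC ?_
        obtain ⟨i, hi⟩ := (hCp.to_le hHC).exists_card_eq
        rw [hj, hi]
        refine Nat.pow_le_pow_right (by norm_num) ?_
        by_contra hlt
        rcases (show i = 0 ∨ i = 1 by omega) with rfl | rfl
        · haveI : Subsingleton H := (Nat.card_eq_one_iff_unique.1 hi).1
          exact hH inferInstance
        · haveI : Fact (Nat.Prime 3) := ⟨Nat.prime_three⟩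
          exact hH (isCyclic_of_prime_card (hi.trans (pow_one 3)))
      exact he ▸ hcC
  have hCn : ¬ p ∣ Nat.card C := fun h => by
    obtain ⟨u, hu⟩ := exists_prime_orderOf_dvd_card' p h
    have hu' : orderOf (u : P2) = p := (Subgroup.orderOf_coe u).trans hu
    obtain ⟨r, hr, hrc⟩ := Nat.exists_prime_and_dvd
      (fun h1 => hc1 (orderOf_eq_one_iff.1 h1) : orderOf c ≠ 1)
    exact hpc' (hcomm u c (hcent u u.2).symm (hu' ▸ dvd_rfl) r hr hrc ▸ hrc)
  rcases Cfsg.Agent.S0799.result (rfl : qF = qF) p C with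
    ⟨k, hk, ⟨h, -⟩ | ⟨⟨e⟩⟩⟩ | ⟨P, K, hKP, ⟨e⟩⟩ | ⟨⟨e⟩⟩ | ⟨⟨e⟩⟩ | ⟨⟨e⟩⟩ | ⟨K, iK, iK', m, hm, he⟩
  · exact absurd h hcyc
  · rw [hgcd] at hk
    have hk0 : k ≠ 0 := by
      rintro rfl
      simp only [zero_dvd_iff] at hk
      omega
    haveI : NeZero k := ⟨hk0⟩
    have hcard : Nat.card C = 2 * k := (Nat.card_congr e.toEquiv).trans DihedralGroup.nat_card
    rcases Nat.lt_or_ge k 3 with hlt | hk3
    · exact eq_of_card_le_four hHC hH (by omega) ▸ hcC
    rcases good_dvd hgood h5 hk with hko | hkp
    · exact absurd (eq_one_of_iso e (fun x => dihedral_central hko (by omega)) hcC hcent) hc1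
    · set D := (H.subgroupOf C).map e.toMonoidHom with hD
      have hnc : ¬ IsCyclic D := fun h => hH (by
        haveI := h
        exact isCyclic_of_surjective
          (((H.subgroupOf C).equivMapOfInjective e.toMonoidHom e.injective).symm.trans
            (subgroupOfEquivOfLe hHC)).toMonoidHom
          (((H.subgroupOf C).equivMapOfInjective e.toMonoidHom e.injective).symm.trans
            (subgroupOfEquivOfLe hHC)).surjective)
      have h1 : e ⟨c, hcC⟩ ∈ D := ((Cfsg.Agent.S3920.result k hk3).2 (Or.inr hkp)) D hnc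
        (mem_centralizer_iff.2 fun y hy => by
          obtain ⟨u, -, rfl⟩ := hy
          show e u * e _ = e _ * e u
          rw [← map_mul, ← map_mul]
          exact congrArg e (Subtype.ext (hcent u u.2).symm.eq))
      obtain ⟨u, hu, hue⟩ := h1
      have := e.injective hue
      rw [this] at hu
      exact hu
  · have hKn : ¬ p ∣ Nat.card K := Nat.card_congr e.toEquiv ▸ hCn
    rcases hqp with ⟨hqP, rfl⟩ | ⟨hq9, rfl⟩
    · -- cyclic
      have hP1 : Nat.card (P : Subgroup P2) = qF := by
        obtain ⟨j, hj⟩ := P.isPGroup'.exists_card_eq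
        have hd : qF ^ j ∣ qF := by
          refine (Nat.Coprime.pow_left j (hqP.coprime_iff_not_dvd.2 hnot)).dvd_of_dvd_mul_right ?_
          rw [← hG, ← hj]
          exact (P : Subgroup P2).card_subgroup_dvd_card.mul_left 2
        have h1 : qF ∣ Nat.card P2 := by
          refine ((Nat.coprime_primes hqP Nat.prime_two).2 hp2).dvd_of_dvd_mul_left ?_
          rw [hG]; exact dvd_mul_right _ _
        have h2 := P.dvd_card_of_dvd_card h1
        rw [hj] at h2 ⊢
        exact Nat.dvd_antisymm hd h2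
      haveI : IsCyclic (P : Subgroup P2) := isCyclic_of_prime_card hP1
      haveI : IsCyclic (MulAut (P : Subgroup P2)) := by
        haveI : IsCyclic (ZMod (Nat.card (P : Subgroup P2)))ˣ := by
          rw [hP1]; exact ZMod.isCyclic_units_prime hqP
        exact isCyclic_of_injective (IsCyclic.mulAutMulEquiv (P : Subgroup P2)).toMonoidHom
          (IsCyclic.mulAutMulEquiv (P : Subgroup P2)).injective
      let φ : K →* MulAut (P : Subgroup P2) :=
        ((P : Subgroup P2).normalizerMonoidHom).comp (Subgroup.inclusion hKP)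
      have hφ : Function.Injective φ := by
        refine (injective_iff_map_eq_one φ).2 fun u hu => ?_
        obtain ⟨w, hw⟩ := exists_prime_orderOf_dvd_card' qF (hP1.symm ▸ dvd_rfl :
          qF ∣ Nat.card (P : Subgroup P2))
        have h1 : (u : P2) * (w : P2) * (u : P2)⁻¹ = (w : P2) :=
          congrArg Subtype.val (DFunLike.congr_fun hu w)
        by_contra hu1
        obtain ⟨r, hr, hru⟩ := Nat.exists_prime_and_dvd
          (fun h => hu1 (Subtype.ext (orderOf_eq_one_iff.1 h)) : orderOf (u : P2) ≠ 1)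
        have h2 := hcomm w u (mul_inv_eq_iff_eq_mul.1 h1).symm
          (dvd_of_eq ((Subgroup.orderOf_coe w).trans hw).symm) r hr hru
        rw [h2] at hru
        refine hKn (hru.trans ?_)
        rw [Subgroup.orderOf_coe]
        exact orderOf_dvd_natCard u
      haveI := isCyclic_of_injective φ hφ
      exact absurd (isCyclic_of_surjective e.symm.toMonoidHom e.symm.surjective) hcyc
    · -- degree nine
      have h360 : Nat.card P2 = 360 := by rw [hq9] at hG; omega
      have hP9 : Nat.card (P : Subgroup P2) = 9 := by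
        rw [P.card_eq_multiplicity, h360]
        have : Nat.factorization 360 3 = 2 := by
          rw [show (360 : ℕ) = 3 ^ 2 * 40 from rfl,
            Nat.factorization_mul (by norm_num) (by norm_num), Finsupp.add_apply,
            Nat.prime_three.factorization_pow, Finsupp.single_eq_same,
            Nat.factorization_eq_zero_of_not_dvd (by norm_num)]
        rw [this]; rfl
      set N := normalizer ((P : Subgroup P2) : Set P2) with hN
      have h9K : 9 * Nat.card K ∣ Nat.card N := by
        refine Nat.Coprime.mul_dvd_of_dvd_of_dvd ?_ (hP9 ▸ card_dvd_of_le le_normalizer)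
          (card_dvd_of_le hKP)
        rw [show (9 : ℕ) = 3 ^ 2 from rfl]
        exact (Nat.prime_three.coprime_iff_not_dvd.2 hKn).pow_left 2
      have hidx := N.card_mul_index
      rw [h360] at hidx
      have hn3 : Nat.card (Sylow 3 P2) = N.index := P.card_eq_index_normalizer
      have hmod : N.index % 3 = 1 := by
        rw [← hn3]; exact card_sylow_modEq_one 3 P2
      have hn1 : N.index ≠ 1 := fun h => by
        have hPn : (P : Subgroup P2).Normal := normalizer_eq_top_iff.1 (index_eq_one.1 h)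
        rcases hPn.eq_bot_or_eq_top with h1 | h1
        · rw [h1, Subgroup.card_bot] at hP9; omega
        · rw [h1, Subgroup.card_top, h360] at hP9; omega
      have hn4 : N.index ≠ 4 := fun h => by
        rcases (inferInstance : (MulAction.toPermHom P2 (Sylow 3 P2)).ker.Normal).eq_bot_or_eq_top
          with h2 | h2
        · have h4 := card_dvd_of_injective _ ((MonoidHom.ker_eq_bot_iff _).1 h2)
          rw [Nat.card_perm, hn3, h, h360] at h4
          exact absurd h4 (by decide)
        · have h4 : Subsingleton (Sylow 3 P2) := ⟨fun A B => by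
            obtain ⟨g, hg⟩ := MulAction.exists_smul_eq P2 A B
            have hk : g ∈ (MulAction.toPermHom P2 (Sylow 3 P2)).ker := by rw [h2]; exact mem_top g
            rw [MonoidHom.mem_ker] at hk
            rw [← hg]
            exact (Equiv.ext_iff.1 hk A).symm⟩
          exact hn1 (hn3 ▸ Nat.card_eq_one_iff_unique.2 ⟨h4, inferInstance⟩)
      have hK4 : Nat.card K ≤ 4 := by
        obtain ⟨d, hd⟩ := h9K
        have hKpos : 0 < Nat.card K := Nat.card_pos
        have hpos : 0 < Nat.card N := Nat.card_pos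
        have h7 : 7 ≤ N.index := by omega
        have h8 : Nat.card N * 7 ≤ 360 := le_of_le_of_eq (Nat.mul_le_mul_left _ h7) hidx
        have h10 : N.index ∣ 40 := by
          refine (((Nat.prime_three.coprime_iff_not_dvd).2 (by omega)).pow_left 2).symm.dvd_of_dvd_mul_left ?_
          exact Dvd.intro_left _ hidx
        have h11 : N.index ≠ 7 := fun h => by rw [h] at h10; omega
        have h12 : N.index ≠ 8 := by omega
        have h13 : 10 ≤ N.index := by
          rcases (show N.index = 7 ∨ N.index = 8 ∨ N.index = 9 ∨ 10 ≤ N.index by omega) with h | h | h | h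
          all_goals omega
        have h14 : Nat.card N * 10 ≤ 360 := le_of_le_of_eq (Nat.mul_le_mul_left _ h13) hidx
        have h15 : 9 * Nat.card K ≤ Nat.card N := Nat.le_of_dvd hpos ⟨d, hd⟩
        omega
      exact eq_of_card_le_four hHC hH (Nat.card_congr e.toEquiv ▸ hK4) ▸ hcC
  · exact absurd (eq_one_of_iso e alt_four_central hcC hcent) hc1
  · exact absurd (eq_one_of_iso e perm_four_central hcC hcent) hc1
  · refine absurd (eq_one_of_iso e (fun x hx => ?_) hcC hcent) hc1
    exact alt_five_central x hx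
  · exfalso
    refine hCn ?_
    letI := iK; letI := iK'
    have hpK : p ∣ Fintype.card K := by
      refine hp.dvd_of_dvd_pow (m := Fintype.card K) (n := m) ?_
      rw [hm]; exact hpq
    rcases he with ⟨⟨e⟩⟩ | ⟨⟨e⟩⟩ <;> rw [Nat.card_congr e.toEquiv]
    · have h := CfsgLib.Classical.card_psl2 (F := K)
      have hd : p ∣ Nat.gcd 2 (Fintype.card K - 1) * Nat.card (Matrix.ProjectiveSpecialLinearGroup (Fin 2) K) := by
        rw [h]; exact hpK.mul_right _
      rcases hp.dvd_mul.1 hd with h1 | h1
      · exact absurd ((Nat.prime_dvd_prime_iff_eq hp Nat.prime_two).1 (h1.trans (Nat.gcd_dvd_left _ _))) hp2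
      · exact h1
    · rw [CfsgLib.Perm.Dickson.card_G2 K, Nat.card_eq_fintype_card]
      exact (hpK.mul_right _).mul_right _

end CfsgLib.Perm.SelfCentCyc
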